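import Groth.Agent.ValApprox.Basic

/-!
# A domain with valuation local rings as intersection of valuation subrings
-/

universe u

namespace Groth.Agent.ValApprox

variable (R L : Type u) [CommRing R] [IsDomain R] [Field L] [Algebra R L] [IsFractionRing R L]
  (hR : ∀ (p : Ideal R) [p.IsPrime], ValuationRing (Localization.AtPrime p))

/-- The valuation subring `R_m` of the fraction field. -/
noncomputable def localVal (m : MaximalSpectrum R) : ValuationSubring L :=
  { (Localization.subalgebra.ofField L m.asIdeal.primeCompl
      m.asIdeal.primeCompl_le_nonZeroDivisors).toSubring with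
    mem_or_inv_mem' := fun x => by
      haveI := hR m.asIdeal
      let W := Localization.subalgebra.ofField L m.asIdeal.primeCompl
        m.asIdeal.primeCompl_le_nonZeroDivisors
      haveI : IsLocalization.AtPrime W m.asIdeal :=
        Localization.subalgebra.isLocalization_ofField L m.asIdeal.primeCompl
          m.asIdeal.primeCompl_le_nonZeroDivisors
      haveI : IsFractionRing W L :=
        Localization.subalgebra.isFractionRing_ofField L m.asIdeal.primeCompl
          m.asIdeal.primeCompl_le_nonZeroDivisors
      let e : Localization.AtPrime m.asIdeal ≃ₐ[R] W := IsLocalization.algEquiv m.asIdeal.primeCompl _ _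
      haveI : ValuationRing W := (ValuationRing.iff_dvd_total).2 ⟨fun a b => by
        rcases (ValuationRing.iff_dvd_total.1 (hR m.asIdeal)).total (e.symm a) (e.symm b) with h | h
        · exact Or.inl (by simpa using map_dvd e h)
        · exact Or.inr (by simpa using map_dvd e h)⟩
      rcases ValuationRing.isInteger_or_isInteger W x with ⟨c, hc⟩ | ⟨c, hc⟩
      · exact Or.inl (hc ▸ c.2)
      · exact Or.inr (hc ▸ c.2) }

theorem mem_range_iff (x : L) : x ∈ (algebraMap R L).range ↔ ∀ m, x ∈ localVal R L hR m := by
  rw [show (∀ m, x ∈ localVal R L hR m) ↔ x ∈ (⨅ v : MaximalSpectrum R,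
    Localization.subalgebra.ofField L _ v.asIdeal.primeCompl_le_nonZeroDivisors) from
      (Algebra.mem_iInf).symm.trans Iff.rfl, MaximalSpectrum.iInf_localization_eq_bot, Algebra.mem_bot]
  rfl

end Groth.Agent.ValApprox

namespace Groth.Agent.ValApprox

/-- Valuation local rings transfer along ring isomorphisms. -/
theorem valuationRing_localization_of_equiv {B' B : Type u} [CommRing B'] [IsDomain B'] [CommRing B]
    [IsDomain B] (e : B' ≃+* B)
    (h : ∀ (p : Ideal B') [p.IsPrime], ValuationRing (Localization.AtPrime p))
    (p : Ideal B) [p.IsPrime] : ValuationRing (Localization.AtPrime p) := by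
  haveI : (Ideal.comap e.toRingHom p).IsPrime := Ideal.IsPrime.comap _
  haveI := h (Ideal.comap e.toRingHom p)
  let f := Localization.localRingHom (Ideal.comap e.toRingHom p) p e.toRingHom rfl
  exact (ValuationRing.iff_dvd_total).2 ⟨fun a b => by
    have hsurj : Function.Surjective f := fun a => by
      obtain ⟨r, s, rfl⟩ := IsLocalization.exists_mk'_eq p.primeCompl a
      obtain ⟨r, rfl⟩ := e.surjective r
      obtain ⟨s0, hs0⟩ := e.surjective s.1
      refine ⟨IsLocalization.mk' _ r (⟨s0, fun h => s.2 (hs0 ▸ h)⟩ :
        (Ideal.comap e.toRingHom p).primeCompl), ?_⟩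
      refine (Localization.localRingHom_mk' _ _ _ _ _ _).trans ?_
      congr 1
      exact Subtype.ext hs0
    obtain ⟨a', rfl⟩ := hsurj a
    obtain ⟨b', rfl⟩ := hsurj b
    exact ((ValuationRing.iff_dvd_total.1 ‹_›).total a' b').imp (map_dvd f) (map_dvd f)⟩

/-- Semilocality transfers along ring isomorphisms. -/
theorem finite_maximal_of_equiv {B' B : Type u} [CommRing B'] [CommRing B] (e : B' ≃+* B)
    [Finite (MaximalSpectrum B')] : Finite (MaximalSpectrum B) :=
  Finite.of_injective (fun M : MaximalSpectrum B => (⟨Ideal.comap e.toRingHom M.asIdeal,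
    Ideal.comap_isMaximal_of_surjective _ e.surjective⟩ : MaximalSpectrum B'))
    fun _ _ h => MaximalSpectrum.ext (Ideal.comap_injective_of_surjective _ e.surjective
      (congrArg MaximalSpectrum.asIdeal h))

end Groth.Agent.ValApprox
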