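import Mathlib

/-!
# The rank of a valuation ring inside a finitely generated field

`chain_bound`: if a valuation ring maps injectively to a field generated by `n` elements, its chains of
primes have length at most `n + 1`.
-/

universe u

namespace Groth.Agent.ValApprox

open Finset

variable {R : Type u} [CommRing R] [IsDomain R] [ValuationRing R]

/-- Monomials in elements lying in successively larger primes have pairwise different values. -/
theorem monomial_sum_ne_zero {ι : Type*} [Fintype ι] (pos : ι → ℕ) (hpos : Function.Injective pos)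
    (x : ι → R) (Q : ι → Ideal R) (hQp : ∀ i, (Q i).IsPrime) (hxQ : ∀ i, x i ∈ Q i)
    (hlt : ∀ i j, pos i < pos j → x j ∉ Q i) (hx0 : ∀ i, x i ≠ 0)
    (T : Finset (ι →₀ ℕ)) (hT : T.Nonempty) (u : (ι →₀ ℕ) → R) (hu : ∀ e ∈ T, IsUnit (u e)) :
    ∑ e ∈ T, u e * ∏ i, x i ^ e i ≠ 0 := by
  classical
  letI : LinearOrder ι := LinearOrder.lift' pos hpos
  obtain ⟨e0, he0, hmin⟩ := T.exists_min_image toLex hT
  let M : (ι →₀ ℕ) → R := fun e => ∏ i, x i ^ e i
  have hM0 : ∀ e, M e ≠ 0 := fun e => prod_ne_zero_iff.2 fun i _ => pow_ne_zero _ (hx0 i)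
  have hstep : ∀ e ∈ T, e ≠ e0 → ∃ t ∈ IsLocalRing.maximalIdeal R, M e = M e0 * t := by
    intro e he hne
    obtain ⟨i, heq, hi⟩ := Finsupp.Lex.lt_iff.1
      (lt_of_le_of_ne (hmin e he) fun h => hne (toLex.injective h).symm)
    simp only [ofLex_toLex] at heq hi
    haveI := hQp i
    have hsplit : ∀ f : ι →₀ ℕ, M f = (∏ j ∈ univ.filter (fun j => j < i), x j ^ f j) *
        (x i ^ f i * ∏ j ∈ univ.filter (fun j => i < j), x j ^ f j) := by
      intro f
      show ∏ j, x j ^ f j = _
      rw [← prod_filter_mul_prod_filter_not univ (fun j => j < i)]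
      congr 1
      rw [show univ.filter (fun j => ¬ j < i) = insert i (univ.filter fun j => i < j) by
        ext j; simp [le_iff_lt_or_eq, or_comm, eq_comm], prod_insert (by simp)]
    set P' := ∏ j ∈ univ.filter (fun j => i < j), x j ^ e0 j
    set P := ∏ j ∈ univ.filter (fun j => i < j), x j ^ e j
    have hP' : P' ∉ Q i := fun h => by
      obtain ⟨j, hj, hjm⟩ := (Ideal.IsPrime.prod_mem_iff).1 h
      exact hlt i j (mem_filter.1 hj).2 (Ideal.IsPrime.mem_of_pow_mem inferInstance _ hjm)
    have hmem : x i ^ (e i - e0 i) * P ∈ Q i :=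
      (Q i).mul_mem_right _ (Ideal.pow_mem_of_mem _ (hxQ i) _ (by omega))
    obtain ⟨t, ht⟩ : P' ∣ x i ^ (e i - e0 i) * P :=
      ((ValuationRing.iff_dvd_total.1 ‹_›).total P' _).resolve_right fun h =>
        hP' ((Q i).mem_of_dvd h hmem)
    have htQ : t ∈ Q i := ((hQp i).mem_or_mem (ht ▸ hmem)).resolve_left hP'
    refine ⟨t, IsLocalRing.le_maximalIdeal (hQp i).ne_top htQ, ?_⟩
    rw [hsplit e, hsplit e0, show x i ^ e i = x i ^ e0 i * x i ^ (e i - e0 i) by
        rw [← pow_add, Nat.add_sub_cancel' hi.le],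
      prod_congr rfl (fun j hj => by rw [← heq j (mem_filter.1 hj).2] : ∀ j ∈ univ.filter (fun j => j < i),
        x j ^ e j = x j ^ e0 j), mul_assoc (x i ^ e0 i), ht]
    ring
  choose! t ht htM using hstep
  rw [← add_sum_erase _ _ he0]
  have hsum : ∑ e ∈ T.erase e0, u e * M e = M e0 * ∑ e ∈ T.erase e0, u e * t e := by
    rw [mul_sum]
    exact sum_congr rfl fun e he => by rw [htM e (mem_erase.1 he).2 (mem_erase.1 he).1]; ring
  rw [show ∑ e ∈ T.erase e0, u e * ∏ i, x i ^ e i = M e0 * ∑ e ∈ T.erase e0, u e * t e from hsum,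
    show u e0 * ∏ i, x i ^ e0 i = M e0 * u e0 from mul_comm _ _, ← mul_add]
  refine mul_ne_zero (hM0 e0) fun h => ?_
  have hmem : ∑ e ∈ T.erase e0, u e * t e ∈ IsLocalRing.maximalIdeal R :=
    Ideal.sum_mem _ fun e he => Ideal.mul_mem_left _ _ (ht e (mem_erase.1 he).2 (mem_erase.1 he).1)
  exact (IsLocalRing.mem_maximalIdeal _).1
    (by rw [eq_neg_of_add_eq_zero_left h]; exact neg_mem hmem) (hu e0 he0)

variable {K : Type u} [Field K]

theorem trdeg_le (s : Finset K) (htop : Subfield.closure (s : Set K) = ⊤) :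
    Algebra.trdeg (⊥ : Subring K) K ≤ s.card := by
  let A := Algebra.adjoin (⊥ : Subring K) (s : Set K)
  haveI : Algebra.IsAlgebraic A K := ⟨fun z => by
    obtain ⟨y, hy, w, hw, rfl⟩ := Subfield.mem_closure_iff.1 (htop.ge (Subfield.mem_top z))
    have hle : Subring.closure (s : Set K) ≤ A.toSubring :=
      Subring.closure_le.2 Algebra.subset_adjoin
    rw [div_eq_mul_inv]
    exact (isAlgebraic_algebraMap (⟨y, hle hy⟩ : A)).mul (isAlgebraic_algebraMap (⟨w, hle hw⟩ : A)).inv⟩
  exact (Algebra.IsAlgebraic.trdeg_le_cardinalMk (⊥ : Subring K) (s : Set K)).trans (le_of_eq (by simp))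

theorem card_le_of_trdeg_le {N : ℕ} (hN : Algebra.trdeg (⊥ : Subring K) K ≤ N)
    {ι : Type*} [Fintype ι] {y : ι → K} (hy : AlgebraicIndependent (⊥ : Subring K) y) :
    Fintype.card ι ≤ N := by
  have h := (hy.comp (Fintype.equivFin ι).symm (Equiv.injective _)).lift_cardinalMk_le_trdeg.trans
    (Cardinal.lift_le.2 hN)
  simpa using h

theorem mem_bot_exists_int (c : (⊥ : Subring K)) : ∃ n : ℤ, (n : K) = c := Subring.mem_bot.1 c.2

variable (g : R →+* K)

/-- Chains of primes in a valuation ring inside a field with `n` generators have length `≤ n + 1`. -/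
theorem chain_bound_trdeg (hg : Function.Injective g) {N : ℕ}
    (hN : Algebra.trdeg (⊥ : Subring K) K ≤ N) {r : ℕ} (q : Fin (r + 1) → Ideal R)
    (hqp : ∀ i, (q i).IsPrime) (hq : StrictMono q) : r ≤ N + 1 := by
  classical
  have hx : ∀ i : Fin r, ∃ x, x ∈ q i.succ ∧ x ∉ q i.castSucc := fun i =>
    SetLike.exists_of_lt (hq (Fin.castSucc_lt_succ))
  choose x hxs hxc using hx
  have hx0 : ∀ i, x i ≠ 0 := fun i h => hxc i (h ▸ zero_mem _)
  have hint : ∀ n : ℤ, (n : K) ≠ 0 → (n : R) ≠ 0 := fun n hn h => hn (by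
    rw [← map_intCast g, h, map_zero])
  by_cases hall : ∀ n : ℤ, (n : R) ≠ 0 → IsUnit (n : R)
  · suffices AlgebraicIndependent (⊥ : Subring K) (g ∘ x) by
      have := card_le_of_trdeg_le hN this
      simp at this
      omega
    rw [algebraicIndependent_iff]
    intro P hP
    by_contra hP0
    choose n hn using mem_bot_exists_int (K := K)
    have hne := monomial_sum_ne_zero (fun i : Fin r => (i : ℕ)) Fin.val_injective x (fun i => q i.succ)
      (fun i => hqp _) hxs (fun i j hij h => hxc j (hq.monotone (show i.succ ≤ j.castSucc from hij) h))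
      hx0 P.support (by simpa using hP0) (fun d => (n (P.coeff d) : R))
      (fun d hd => hall _ (hint _ (by
        rw [hn]; exact fun h => MvPolynomial.mem_support_iff.1 hd (Subtype.ext h))))
    refine hne (hg ?_)
    rw [map_zero, ← hP, MvPolynomial.aeval_def, MvPolynomial.eval₂_eq', map_sum]
    refine sum_congr rfl fun d _ => ?_
    rw [map_mul, map_intCast, hn, map_prod]
    simp
    exact Or.inl rfl
  -- a prime number that is a non-zero non-unit
  push Not at hall
  obtain ⟨n0, hn0, hn0u⟩ := hall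
  have hex : ∃ n : ℕ, (n : R) ≠ 0 ∧ ¬ IsUnit (n : R) := by
    refine ⟨n0.natAbs, ?_⟩
    obtain ⟨m, rfl | rfl⟩ := n0.eq_nat_or_neg <;> simp_all
  let p := Nat.find hex
  obtain ⟨hp0, hpu⟩ : (p : R) ≠ 0 ∧ ¬ IsUnit (p : R) := Nat.find_spec hex
  have hp : p.Prime := by
    refine Nat.prime_iff_not_exists_mul_eq.2 ⟨?_, fun ⟨a, b, ha, hb, hab⟩ => ?_⟩
    · by_contra h
      interval_cases p <;> simp_all
    · have ha' := Nat.find_min hex ha
      have hb' := Nat.find_min hex hb
      push Not at ha' hb'
      have e : (a : R) * b = p := by rw [← Nat.cast_mul, hab]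
      exact hpu (e ▸ (ha' fun h => hp0 (by rw [← e, h, zero_mul])).mul
        (hb' fun h => hp0 (by rw [← e, h, mul_zero])))
  have hunit : ∀ m : ℕ, ¬ p ∣ m → IsUnit (m : R) := by
    intro m hm
    have hcop : Nat.gcd p m = 1 := (hp.coprime_iff_not_dvd.2 hm).gcd_eq_one
    have hb := congrArg (fun a : ℤ => (a : R)) (Nat.gcd_eq_gcd_ab p m)
    simp only [hcop, Nat.cast_one, Int.cast_one, Int.cast_add, Int.cast_mul, Int.cast_natCast] at hb
    rcases IsLocalRing.isUnit_or_isUnit_of_add_one hb.symm with h | h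
    · exact absurd (isUnit_of_mul_isUnit_left h) hpu
    · exact isUnit_of_mul_isUnit_left h
  have hfac : ∀ n : ℤ, (n : K) ≠ 0 → ∃ (a : ℕ) (v : R), IsUnit v ∧ (n : R) = v * (p : R) ^ a := by
    intro n hn
    obtain ⟨a, m, hm, hnm⟩ := Nat.exists_eq_pow_mul_and_not_dvd
      (show n.natAbs ≠ 0 from fun h => hn (by simp [Int.natAbs_eq_zero.1 h])) p hp.ne_one
    rcases Int.natAbs_eq n with h | h
    · exact ⟨a, m, hunit m hm, by rw [h, hnm]; push_cast; ring⟩
    · exact ⟨a, -m, (hunit m hm).neg, by rw [h, hnm]; push_cast; ring⟩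
  -- the position of `p` in the chain
  let N := univ.filter fun i : Fin (r + 1) => (p : R) ∉ q i
  let t := N.card
  have ht1 : ∀ i : Fin (r + 1), (p : R) ∈ q i → t ≤ i := fun i hi => by
    refine (card_le_card (t := Iio i) fun j hj => mem_Iio.2 ?_).trans (Fin.card_Iio i).le
    by_contra h
    exact (mem_filter.1 hj).2 (hq.monotone (not_lt.1 h) hi)
  have ht2 : ∀ i : Fin (r + 1), (p : R) ∉ q i → (i : ℕ) < t := fun i hi => by
    refine lt_of_lt_of_le (Nat.lt_succ_self _) ((Fin.card_Iic i).ge.trans (card_le_card fun j hj => ?_))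
    exact mem_filter.2 ⟨mem_univ _, fun h => hi (hq.monotone (mem_Iic.1 hj) h)⟩
  let S := {i : Fin r // (i : ℕ) + 1 ≠ t}
  have hcard : r ≤ Fintype.card S + 1 := by
    have h1 : (univ.filter fun i : Fin r => (i : ℕ) + 1 = t).card ≤ 1 :=
      card_le_one.2 fun a ha b hb => Fin.ext (by
        have := (mem_filter.1 ha).2; have := (mem_filter.1 hb).2; omega)
    have h2 := card_filter_add_card_filter_not (s := (univ : Finset (Fin r))) (fun i => (i : ℕ) + 1 = t)
    rw [card_univ, Fintype.card_fin] at h2
    rw [Fintype.card_subtype]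
    simp only [ne_eq]
    omega
  suffices AlgebraicIndependent (⊥ : Subring K) (fun i : S => g (x i.1)) by
    have := card_le_of_trdeg_le hN this
    omega
  rw [algebraicIndependent_iff]
  intro P hP
  by_contra hP0
  choose n hn using mem_bot_exists_int (K := K)
  have hfac' : ∀ d, ∃ (a : ℕ) (v : R), d ∈ P.support → IsUnit v ∧ (n (P.coeff d) : R) = v * (p : R) ^ a := by
    intro d
    by_cases hd : d ∈ P.support
    · obtain ⟨a, v, h⟩ := hfac (n (P.coeff d))
        (by rw [hn]; exact fun h => MvPolynomial.mem_support_iff.1 hd (Subtype.ext h))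
      exact ⟨a, v, fun _ => h⟩
    · exact ⟨0, 0, fun h => absurd h hd⟩
  choose a v hav using hfac'
  let ext : (S →₀ ℕ) → (Option S →₀ ℕ) := fun d =>
    Finsupp.equivFunOnFinite.symm fun o => o.elim (a d) d
  have hext : Function.Injective ext := fun d d' h => Finsupp.ext fun i => DFunLike.congr_fun h (some i)
  let Qp : Ideal R := if h : t < r + 1 then q ⟨t, h⟩ else IsLocalRing.maximalIdeal R
  have hQp : Qp.IsPrime := by
    simp only [Qp]; split
    · exact hqp _
    · infer_instance
  have hpQ : (p : R) ∈ Qp := by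
    simp only [Qp]; split
    · rename_i h
      by_contra h'
      exact lt_irrefl t (ht2 ⟨t, h⟩ h')
    · exact hpu
  have hne := monomial_sum_ne_zero (fun o : Option S => o.elim (2 * t) fun i => 2 * (i.1 : ℕ) + 1)
    (by
      rintro (_ | i) (_ | j) h <;> simp only [Option.elim] at h
      · rfl
      · omega
      · omega
      · exact congrArg some (Subtype.ext (Fin.ext (by omega))))
    (fun o => o.elim (p : R) fun i => x i.1) (fun o => o.elim Qp fun i => q i.1.succ)
    (fun o => by cases o <;> first | exact hQp | exact hqp _)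
    (fun o => by cases o <;> first | exact hpQ | exact hxs _)
    (by
      rintro (_ | i) (_ | j) h <;> simp only [Option.elim] at h ⊢
      · omega
      · intro hm
        have hjr := j.1.2
        simp only [Qp] at hm
        rw [dif_pos (show t < r + 1 by omega)] at hm
        exact hxc j.1 (hq.monotone (Fin.le_def.2 (by simp; omega)) hm)
      · intro hm
        have h1 := ht1 _ hm
        have h2 := i.2
        simp at h1
        omega
      · exact fun hm => hxc j.1 (hq.monotone (Fin.le_def.2 (show (i.1 : ℕ) + 1 ≤ (j.1 : ℕ) by omega)) hm))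
    (fun o => by cases o <;> first | exact hp0 | exact hx0 _)
    (P.support.image ext) (Finset.Nonempty.image (by simpa using hP0) ext)
    (fun e => v (e.comapDomain some (Option.some_injective _).injOn)) (by
      intro e he
      obtain ⟨d, hd, rfl⟩ := mem_image.1 he
      convert (hav d hd).1
      exact Finsupp.ext fun i => rfl)
  refine hne (hg ?_)
  rw [map_zero, ← hP, MvPolynomial.aeval_def, MvPolynomial.eval₂_eq', map_sum,
    sum_image hext.injOn]
  refine sum_congr rfl fun d hd => ?_
  have hd' : (ext d).comapDomain some (Option.some_injective _).injOn = d := Finsupp.ext fun i => rfl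
  rw [hd', Fintype.prod_option, ← mul_assoc, map_mul]
  simp only [ext, Finsupp.coe_equivFunOnFinite_symm, Option.elim]
  rw [← (hav d hd).2, map_intCast, hn, map_prod]
  simp
  exact Or.inl rfl

theorem chain_bound (hg : Function.Injective g) (s : Finset K)
    (htop : Subfield.closure (s : Set K) = ⊤) {r : ℕ} (q : Fin (r + 1) → Ideal R)
    (hqp : ∀ i, (q i).IsPrime) (hq : StrictMono q) : r ≤ s.card + 1 :=
  chain_bound_trdeg g hg (trdeg_le s htop) q hqp hq

/-- A domain with valuation local rings inside a finitely generated field has finite Krull dimension. -/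
theorem ringKrullDim_le {B : Type u} [CommRing B] [IsDomain B]
    (hB : ∀ (p : Ideal B) [p.IsPrime], ValuationRing (Localization.AtPrime p))
    (g : B →+* K) (hg : Function.Injective g) (s : Finset K)
    (htop : Subfield.closure (s : Set K) = ⊤) : ringKrullDim B ≤ (s.card + 1 : ℕ) := by
  refine iSup_le fun l => Nat.cast_le.2 ?_
  let P := (l.toFun (Fin.last _)).asIdeal
  haveI := hB P
  have hu : ∀ b : P.primeCompl, IsUnit (g b) := fun b =>
    IsUnit.mk0 _ fun h => b.2 (by
      rw [(injective_iff_map_eq_zero g).1 hg _ h]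
      exact P.zero_mem)
  have hle : ∀ i, (l.toFun i).asIdeal ≤ P := fun i =>
    (LTSeries.strictMono l).monotone (Fin.le_last i)
  have hdisj : ∀ i, Disjoint (P.primeCompl : Set B) (l.toFun i).asIdeal := fun i =>
    Set.disjoint_left.2 fun b hb hb' => hb (hle i hb')
  refine chain_bound (IsLocalization.lift (M := P.primeCompl) (S := Localization.AtPrime P) hu) ?_ s htop
    (fun i => Ideal.map (algebraMap B (Localization.AtPrime P)) (l.toFun i).asIdeal)
    (fun i => IsLocalization.isPrime_of_isPrime_disjoint _ _ _ inferInstance (hdisj i))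
    (fun i j hij => ?_)
  · refine (IsLocalization.lift_injective_iff _).2 fun x y => ⟨fun h => ?_, fun h => ?_⟩
    · rw [(IsLocalization.injective (Localization.AtPrime P) P.primeCompl_le_nonZeroDivisors) h]
    · rw [hg h]
  · have hlt : (l.toFun i).asIdeal < (l.toFun j).asIdeal := LTSeries.strictMono l hij
    refine lt_of_le_of_ne (Ideal.map_mono hlt.le) fun h => hlt.ne ?_
    have := congrArg (Ideal.comap (algebraMap B (Localization.AtPrime P))) h
    exact (IsLocalization.comap_map_of_isPrime_disjoint P.primeCompl (Localization.AtPrime P)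
      inferInstance (hdisj i)).symm.trans (this.trans (IsLocalization.comap_map_of_isPrime_disjoint
        P.primeCompl (Localization.AtPrime P) inferInstance (hdisj j)))

end Groth.Agent.ValApprox
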