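import Mathlib

/-!
# Intersections of finitely many valuation subrings; rank of valuation rings in finitely generated fields

* `exists_denom`: common denominators `1 + z + ... + z^m`;
* `exists_fraction`, `valuationRing_localization`, `finite_maximal`: a finite intersection of valuation
  subrings is a semilocal Prüfer domain with the whole field as fraction field;
* `chain_bound`: a valuation ring inside a field generated by `n` elements has prime chains of length `≤ n + 1`.
-/

universe u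

namespace Groth.Agent.ValApprox

open Finset

theorem bad_subsingleton {F : Type*} [Field F] (r : F) :
    {n : ℕ | n.Prime ∧ ∑ k ∈ range n, r ^ k = 0}.Subsingleton := by
  rintro n ⟨hn, hn0⟩ n' ⟨hn', hn0'⟩
  by_contra hne
  have hcop : Nat.Coprime n n' := (Nat.coprime_primes hn hn').2 hne
  by_cases hr : r = 1
  · subst hr
    simp only [one_pow, sum_const, card_range, nsmul_eq_mul, mul_one] at hn0 hn0'
    have h := congrArg (fun a : ℤ => (a : F)) (Nat.gcd_eq_gcd_ab n n')
    simp [hcop.gcd_eq_one, hn0, hn0'] at h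
  · have h1 : ∀ m, ∑ k ∈ range m, r ^ k = 0 → r ^ m = 1 := fun m hm =>
      sub_eq_zero.1 (by rw [← geom_sum_mul, hm, zero_mul])
    have h2 := pow_gcd_eq_one.2 ⟨h1 n hn0, h1 n' hn0'⟩
    rw [hcop.gcd_eq_one, pow_one] at h2
    exact hr h2

variable {K : Type u} [Field K] {ι : Type*} [Finite ι] (W : ι → ValuationSubring K)

/-- A common denominator `∑_{k ≤ m} z ^ k`. -/
theorem exists_denom (z : K) :
    ∃ m : ℕ, 1 ≤ m ∧ (∑ k ∈ range (m + 1), z ^ k) ≠ 0 ∧
      ∀ i, ∀ k ≤ m, z ^ k / (∑ k ∈ range (m + 1), z ^ k) ∈ W i := by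
  classical
  let bad : Set ℕ := {n | n.Prime ∧ ∑ k ∈ range n, z ^ k = 0} ∪
    ⋃ i : ι, {n | n.Prime ∧ ∃ h : z ∈ W i,
      ∑ k ∈ range n, IsLocalRing.residue (W i) ⟨z, h⟩ ^ k = 0}
  have hbad : bad.Finite := by
    refine (bad_subsingleton z).finite.union (Set.finite_iUnion fun i => ?_)
    by_cases h : z ∈ W i
    · refine (bad_subsingleton (IsLocalRing.residue (W i) ⟨z, h⟩)).finite.subset ?_
      rintro n ⟨hn, _, h0⟩
      exact ⟨hn, h0⟩
    · exact Set.finite_empty.subset fun n ⟨_, h', _⟩ => h h'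
  obtain ⟨n, hn, hnb⟩ := Nat.infinite_setOf_prime.exists_notMem_finset hbad.toFinset
  rw [Set.Finite.mem_toFinset] at hnb
  obtain ⟨m, rfl⟩ : ∃ m, n = m + 1 := ⟨n - 1, by have := hn.one_lt; omega⟩
  have hf0 : (∑ k ∈ range (m + 1), z ^ k) ≠ 0 := fun h => hnb (Or.inl ⟨hn, h⟩)
  refine ⟨m, by have := hn.one_lt; omega, hf0, fun i k hk => ?_⟩
  let v := (W i).valuation
  rw [← (W i).valuation_le_one_iff, map_div₀, map_pow,
    div_le_one₀ (zero_lt_iff.2 ((Valuation.ne_zero_iff _).2 hf0))]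
  by_cases h : z ∈ W i
  · let Z : W i := ⟨z, h⟩
    have hu : IsUnit (∑ k ∈ range (m + 1), Z ^ k) := by
      by_contra hu
      refine hnb (Or.inr (Set.mem_iUnion.2 ⟨i, hn, h, ?_⟩))
      have := (IsLocalRing.residue_eq_zero_iff _).2 hu
      simpa [map_sum, map_pow] using this
    have h1 := ((W i).valuation_eq_one_iff _).1 hu
    push_cast at h1
    show v z ^ k ≤ v (∑ k ∈ range (m + 1), z ^ k)
    rw [show v (∑ k ∈ range (m + 1), z ^ k) = 1 from h1]
    exact pow_le_one₀ zero_le ((W i).valuation_le_one_iff _ |>.2 h)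
  · have hgt : 1 < v z := not_le.1 (mt ((W i).valuation_le_one_iff _).1 h)
    show v z ^ k ≤ v (∑ k ∈ range (m + 1), z ^ k)
    rw [Valuation.map_sum_eq_of_lt v (j := m) (mem_range.2 (by omega)) (fun j hj => ?_), map_pow]
    · exact pow_le_pow_right₀ hgt.le hk
    · simp only [mem_sdiff, mem_range, mem_singleton] at hj
      rw [map_pow, map_pow]
      exact pow_lt_pow_right₀ hgt (by omega)

variable (B : Subring K) (hB : ∀ x, x ∈ B ↔ ∀ i, x ∈ W i)

include hB

theorem exists_fraction (z : K) : ∃ a b : K, a ∈ B ∧ b ∈ B ∧ b ≠ 0 ∧ z = a / b := by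
  obtain ⟨m, hm, hf, hW⟩ := exists_denom W z
  refine ⟨z ^ 1 / _, z ^ 0 / _, (hB _).2 fun i => hW i 1 hm, (hB _).2 fun i => hW i 0 (by omega),
    div_ne_zero (by simp) hf, ?_⟩
  field_simp

/-- For each `z` and each prime, `z` or `z⁻¹` is a fraction with denominator outside the prime. -/
theorem exists_notMem_mul (p : Ideal B) [p.IsPrime] {z : K} (hz : z ≠ 0) :
    (∃ s c : B, s ∉ p ∧ (s : K) * z = c) ∨ (∃ s c : B, s ∉ p ∧ (s : K) * z⁻¹ = c) := by
  obtain ⟨m, hm, hf, hW⟩ := exists_denom W z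
  generalize hF : ∑ k ∈ range (m + 1), z ^ k = f at hf hW
  let b : B := ⟨z ^ 0 / f, (hB _).2 fun i => hW i 0 (by omega)⟩
  by_cases hb : b ∈ p
  · right
    let c : B := ∑ k ∈ (range m).attach,
      ⟨z ^ (k : ℕ) / f, (hB _).2 fun i => hW i _ (by have := mem_range.1 k.2; omega)⟩
    refine ⟨1 - b, c, fun h1 => ‹p.IsPrime›.ne_top ?_, ?_⟩
    · exact (Ideal.eq_top_iff_one p).2 (by simpa using p.add_mem h1 hb)
    · have hc : (c : K) = (∑ k ∈ range m, z ^ k) / f := by
        simp only [c, AddSubmonoidClass.coe_finsetSum]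
        rw [sum_attach (range m) (fun k => z ^ k / f), sum_div]
      rw [hc]
      show (1 - z ^ 0 / f) * z⁻¹ = _
      rw [sum_range_succ'] at hF
      simp only [pow_succ, ← sum_mul, pow_zero] at hF
      field_simp
      linear_combination (-1 : K) * hF
  · left
    exact ⟨b, ⟨z ^ 1 / f, (hB _).2 fun i => hW i 1 hm⟩, hb, by show z ^ 0 / f * z = z ^ 1 / f; ring⟩

theorem valuationRing_localization (p : Ideal B) [p.IsPrime] :
    ValuationRing (Localization.AtPrime p) := by
  rw [ValuationRing.iff_dvd_total]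
  refine ⟨fun x y => ?_⟩
  obtain ⟨a, sa, rfl⟩ := IsLocalization.exists_mk'_eq p.primeCompl x
  obtain ⟨c, sc, rfl⟩ := IsLocalization.exists_mk'_eq p.primeCompl y
  have key : ∀ (a c : B) (sa sc : p.primeCompl), (∃ s t : B, s ∉ p ∧ (s : K) * (c : K) = t * (a : K)) →
      IsLocalization.mk' (Localization.AtPrime p) a sa ∣ IsLocalization.mk' (Localization.AtPrime p) c sc := by
    rintro a c sa sc ⟨s, t, hs, h⟩
    refine ⟨IsLocalization.mk' _ (t * sa) (sc * ⟨s, hs⟩), ?_⟩
    rw [← IsLocalization.mk'_mul]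
    refine IsLocalization.mk'_eq_of_eq (Subtype.ext ?_)
    push_cast
    linear_combination -((sa : B).1 * (sc : B).1 * h)
  by_cases ha : (a : K) = 0
  · exact Or.inr (key c a sc sa ⟨1, 0, p.primeCompl.one_mem, by simp [ha]⟩)
  by_cases hc : (c : K) = 0
  · exact Or.inl (key a c sa sc ⟨1, 0, p.primeCompl.one_mem, by simp [hc]⟩)
  rcases exists_notMem_mul W B hB p (z := (c : K) / a) (div_ne_zero hc ha) with ⟨s, t, hs, h⟩ | ⟨s, t, hs, h⟩
  · exact Or.inl (key a c sa sc ⟨s, t, hs, by rw [← h]; field_simp⟩)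
  · exact Or.inr (key c a sc sa ⟨s, t, hs, by rw [← h]; field_simp⟩)

theorem finite_maximal : Finite (MaximalSpectrum B) := by
  classical
  rcases isEmpty_or_nonempty ι with h | h
  · have hbot : ∀ M : MaximalSpectrum B, M.asIdeal = ⊥ := fun M => (Submodule.eq_bot_iff _).2 fun y hy => by
      by_contra hy0
      refine M.isMaximal.ne_top (Ideal.eq_top_of_isUnit_mem _ hy ?_)
      exact IsUnit.of_mul_eq_one (⟨(y : K)⁻¹, (hB _).2 fun i => isEmptyElim i⟩ : B)
        (Subtype.ext (mul_inv_cancel₀ fun e => hy0 (Subtype.ext e)))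
    haveI : Subsingleton (MaximalSpectrum B) :=
      ⟨fun M N => MaximalSpectrum.ext (by rw [hbot M, hbot N])⟩
    infer_instance
  let C : ι → Ideal B := fun i =>
    Ideal.comap (Subring.inclusion (fun x hx => (hB x).1 hx i) : B →+* (W i).toSubring)
      (IsLocalRing.maximalIdeal (W i))
  have key : ∀ M : Ideal B, M.IsMaximal → ∃ i, M = C i := by
    intro M hM
    have hsub : (M : Set B) ⊆ ⋃ i, (C i : Set B) := by
      intro b hb
      by_contra hnot
      simp only [Set.mem_iUnion, SetLike.mem_coe, not_exists] at hnot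
      refine hM.ne_top (Ideal.eq_top_of_isUnit_mem _ hb ?_)
      have hu : ∀ i, IsUnit (⟨(b : K), (hB _).1 b.2 i⟩ : W i) := fun i =>
        IsLocalRing.notMem_maximalIdeal.1 (hnot i)
      have hb0 : (b : K) ≠ 0 := fun h0 => (hu h.some).ne_zero (Subtype.ext h0)
      refine IsUnit.of_mul_eq_one (⟨(b : K)⁻¹, (hB _).2 fun i => ?_⟩ : B) (Subtype.ext (mul_inv_cancel₀ hb0))
      obtain ⟨w, hw⟩ := isUnit_iff_exists_inv.1 (hu i)
      rw [inv_eq_of_mul_eq_one_right (congrArg Subtype.val hw)]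
      exact w.2
    letI := Fintype.ofFinite ι
    have hsub' : (M : Set B) ⊆ ⋃ i ∈ (↑(univ : Finset ι) : Set ι), (C i : Set B) := by
      simpa using hsub
    obtain ⟨i, -, hi⟩ := (Ideal.subset_union_prime h.some h.some
      (fun i _ _ _ => Ideal.IsPrime.comap _)).1 hsub'
    exact ⟨i, hM.eq_of_le (Ideal.comap_ne_top _ (IsLocalRing.maximalIdeal.isMaximal _).ne_top) hi⟩
  choose g hg using fun M : MaximalSpectrum B => key M.asIdeal M.isMaximal
  exact Finite.of_injective g fun M N h => MaximalSpectrum.ext (by rw [hg M, hg N, h])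

end Groth.Agent.ValApprox
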